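/- S5227: certificates for the classes of centric subgroups (generated). -/
import Cfsg.Agent.FUS.C9.ClsD
set_option autoImplicit false
set_option maxRecDepth 100000
set_option Elab.async false

namespace CL.C9

noncomputable def rc1252 : List Rc := [⟨(nat_lit 0x313000000000000000000000001), (nat_lit 0x33bc000000000000000000000000), (nat_lit 0x1131000000000000000000000000), (nat_lit 0x1a79), (nat_lit 0x1000000000000000000000001), (nat_lit 0x5a113d405a5097e05ac0000000000000000000300000000), .ch [] (nat_lit 99) (nat_lit 99) (nat_lit 3)⟩,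
  ⟨(nat_lit 0x30f000000000000000000000001), (nat_lit 0x339c000000000000000000001164), (nat_lit 0x11640000000000000000000005cd), (nat_lit 0), (nat_lit 0x1000000000000000000000001), (nat_lit 0x5a12d830000031500000312000000000000000300000000), .ch [] (nat_lit 99) (nat_lit 99) (nat_lit 3)⟩,
  ⟨(nat_lit 0x313000000000000000000000001), (nat_lit 0x339c0000000000000000000005d3), (nat_lit 0x113d00000000000000000000113d), (nat_lit 0), (nat_lit 0x1000000000000000000000001), (nat_lit 0x3150000030f05aa0000000000000000000300000000), .ch [] (nat_lit 99) (nat_lit 99) (nat_lit 3)⟩,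
  ⟨(nat_lit 0x313000000000000000000000001), (nat_lit 0x33d9000000000000000000000000), (nat_lit 0x1149000000000000000000000000), (nat_lit 0x33d9), (nat_lit 0x1000000000000000000000001), (nat_lit 0x30f0000031505ab0000000000000000000300000000), .ch [] (nat_lit 99) (nat_lit 99) (nat_lit 3)⟩,
  ⟨(nat_lit 0x317000000000000000000000001), (nat_lit 0x33d9000000000000000000000000), (nat_lit 0x1122000000000000000000000000), (nat_lit 0x33d9), (nat_lit 0x1000000000000000000000001), (nat_lit 0x5a10af80000030f00000312000000000000000300000000), .ch [] (nat_lit 99) (nat_lit 99) (nat_lit 3)⟩,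
  ⟨(nat_lit 0x317000000000000000000000001), (nat_lit 0x33bc00000000000000000000112e), (nat_lit 0x112e0000000000000000000005d0), (nat_lit 0), (nat_lit 0x1000000000000000000000001), (nat_lit 0x30f059e1a9400000312000000000000000300000000), .ch [] (nat_lit 99) (nat_lit 99) (nat_lit 3)⟩,
  ⟨(nat_lit 0x30f000000000000000000000001), (nat_lit 0x33bc0000000000000000000005cd), (nat_lit 0x1158000000000000000000001158), (nat_lit 0), (nat_lit 0x1000000000000000000000001), (nat_lit 0x31505990a3b00000312000000000000000300000000), .ch [] (nat_lit 99) (nat_lit 99) (nat_lit 3)⟩,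
  ⟨(nat_lit 0x30f000000000000000000000001), (nat_lit 0x339c0000000000000000000005cd), (nat_lit 0x1158000000000000000000001158), (nat_lit 0), (nat_lit 0x1000000000000000000000001), (nat_lit 0x315059e00f300000312000000000000000300000000), .ch [] (nat_lit 99) (nat_lit 99) (nat_lit 3)⟩,
  ⟨(nat_lit 0x313000000000000000000000001), (nat_lit 0x339c000000000000000000001149), (nat_lit 0x11490000000000000000000005d3), (nat_lit 0), (nat_lit 0x1000000000000000000000001), (nat_lit 0x30f0000031505aa0000000000000000000300000000), .ch [] (nat_lit 99) (nat_lit 99) (nat_lit 3)⟩,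
  ⟨(nat_lit 0x30f000000000000000000000001), (nat_lit 0x33d9000000000000000000000000), (nat_lit 0x1164000000000000000000000000), (nat_lit 0x33d9), (nat_lit 0x1000000000000000000000001), (nat_lit 0x595408c0000031500000312000000000000000300000000), .ch [] (nat_lit 99) (nat_lit 99) (nat_lit 3)⟩,
  ⟨(nat_lit 0x313000000000000000000000001), (nat_lit 0x33bc0000000000000000000005d3), (nat_lit 0x113d00000000000000000000113d), (nat_lit 0), (nat_lit 0x1000000000000000000000001), (nat_lit 0x3150000030f05ac0000000000000000000300000000), .ch [] (nat_lit 99) (nat_lit 99) (nat_lit 3)⟩,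
  ⟨(nat_lit 0x317000000000000000000000001), (nat_lit 0x339c0000000000000000000005d0), (nat_lit 0x112e00000000000000000000339c), (nat_lit 0), (nat_lit 0x1000000000000000000000001), (nat_lit 0x30f05a50a3b00000312000000000000000300000000), .ch [] (nat_lit 99) (nat_lit 99) (nat_lit 3)⟩,
  ⟨(nat_lit 0x317000000000000000000000001), (nat_lit 0x33d9000000000000000000000000), (nat_lit 0x112e000000000000000000000000), (nat_lit 0x33d9), (nat_lit 0x1000000000000000000000001), (nat_lit 0x30f0599097e00000312000000000000000300000000), .ch [] (nat_lit 99) (nat_lit 99) (nat_lit 3)⟩,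
  ⟨(nat_lit 0x30f000000000000000000000001), (nat_lit 0x33bc000000000000000000001164), (nat_lit 0x11640000000000000000000005cd), (nat_lit 0), (nat_lit 0x1000000000000000000000001), (nat_lit 0x59c0af80000031500000312000000000000000300000000), .ch [] (nat_lit 99) (nat_lit 99) (nat_lit 3)⟩,
  ⟨(nat_lit 0x313000000000000000000000001), (nat_lit 0x33bc000000000000000000001149), (nat_lit 0x11490000000000000000000005d3), (nat_lit 0), (nat_lit 0x1000000000000000000000001), (nat_lit 0x30f0000031505ac0000000000000000000300000000), .ch [] (nat_lit 99) (nat_lit 99) (nat_lit 3)⟩,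
  ⟨(nat_lit 0x313000000000000000000000001), (nat_lit 0x33d9000000000000000000000000), (nat_lit 0x113d000000000000000000000000), (nat_lit 0x33d9), (nat_lit 0x1000000000000000000000001), (nat_lit 0x3150000030f05ab0000000000000000000300000000), .ch [] (nat_lit 99) (nat_lit 99) (nat_lit 3)⟩,
  ⟨(nat_lit 0x317000000000000000000000001), (nat_lit 0x33bc0000000000000000000005d0), (nat_lit 0x1122000000000000000000001122), (nat_lit 0), (nat_lit 0x1000000000000000000000001), (nat_lit 0x59501e60000030f00000312000000000000000300000000), .ch [] (nat_lit 99) (nat_lit 99) (nat_lit 3)⟩,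
  ⟨(nat_lit 0x30f000000000000000000000001), (nat_lit 0x33d9000000000000000000000000), (nat_lit 0x1158000000000000000000000000), (nat_lit 0x33d9), (nat_lit 0x1000000000000000000000001), (nat_lit 0x31505a51a9400000312000000000000000300000000), .ch [] (nat_lit 99) (nat_lit 99) (nat_lit 3)⟩,
  ⟨(nat_lit 0x317000000000000000000000001), (nat_lit 0x339c0000000000000000000005d0), (nat_lit 0x1122000000000000000000001122), (nat_lit 0), (nat_lit 0x1000000000000000000000001), (nat_lit 0x59c24b00000030f00000312000000000000000300000000), .ch [] (nat_lit 99) (nat_lit 99) (nat_lit 3)⟩,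
  ⟨(nat_lit 0x1), (nat_lit 0x12), (nat_lit 0x5cd), (nat_lit 0), (nat_lit 0x33a600000000000000000000000000000001), (nat_lit 0x5aa1a9405aa1b8705aa19a100000000000000f300000000), .ch [] (nat_lit 99) (nat_lit 99) (nat_lit 3)⟩,
  ⟨(nat_lit 0x1), (nat_lit 0), (nat_lit 0), (nat_lit 0x33d9), (nat_lit 0x33e400000000000000000000000000000001), (nat_lit 0x5ab26b505ab277205ab250500000000000000f300000000), .ch [] (nat_lit 99) (nat_lit 99) (nat_lit 3)⟩,
  ⟨(nat_lit 0x1), (nat_lit 0x12), (nat_lit 0x5cd), (nat_lit 0), (nat_lit 0x33c500000000000000000000000000000001), (nat_lit 0x5ac12c605ac133205ac306900000000000000f300000000), .ch [] (nat_lit 99) (nat_lit 99) (nat_lit 3)⟩,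
  ⟨(nat_lit 0), (nat_lit 0), (nat_lit 0), (nat_lit 0), (nat_lit 0x65b000000000037000000070003), (nat_lit 0), .tv (nat_lit 0x1b000000030001) (nat_lit 9) (nat_lit 81)⟩,
  ⟨(nat_lit 0), (nat_lit 0), (nat_lit 0), (nat_lit 0), (nat_lit 0x607000000000037000000070003), (nat_lit 0), .tv (nat_lit 0x1b000000030001) (nat_lit 9) (nat_lit 81)⟩,
  ⟨(nat_lit 0x34000000000001), (nat_lit 0x65a000000000042), (nat_lit 0x4731000000004731), (nat_lit 0), (nat_lit 0x1000000000001), (nat_lit 0x2d05a0138300000030000000000000000300000000), .ch [] (nat_lit 99) (nat_lit 99) (nat_lit 3)⟩,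
  ⟨(nat_lit 0x34000000000001), (nat_lit 0x4731000000000042), (nat_lit 0x606000000004731), (nat_lit 0), (nat_lit 0x1000000000001), (nat_lit 0x2d05a612c600000030000000000000000300000000), .ch [] (nat_lit 99) (nat_lit 99) (nat_lit 3)⟩,
  ⟨(nat_lit 0x31000000000001), (nat_lit 0x66d00000000066d), (nat_lit 0x4731000000000045), (nat_lit 0), (nat_lit 0x1000000000001), (nat_lit 0x2d00000033059a0000000000000000000300000000), .ch [] (nat_lit 99) (nat_lit 99) (nat_lit 3)⟩,
  ⟨(nat_lit 0x31000000000001), (nat_lit 0x4731000000000611), (nat_lit 0x611000000000045), (nat_lit 0), (nat_lit 0x1000000000001), (nat_lit 0x2d00000033059a0000000000000000000300000000), .ch [] (nat_lit 99) (nat_lit 99) (nat_lit 3)⟩,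
  ⟨(nat_lit 0x30000000000000), (nat_lit 0xb4000000000000), (nat_lit 0x4731000000000000), (nat_lit 0), (nat_lit 0x1000000000003), (nat_lit 0x59a25f8059a26eb059a0000000000000000000300000000), .tv (nat_lit 0x5a0030000000000001) (nat_lit 3) (nat_lit 252)⟩,
  ⟨(nat_lit 0x32000000000001), (nat_lit 0x474b000000000000), (nat_lit 0x611000000000000), (nat_lit 0x474b), (nat_lit 0x1000000000001), (nat_lit 0x2d0000003305a00000000000000000000300000000), .ch [] (nat_lit 99) (nat_lit 99) (nat_lit 3)⟩,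
  ⟨(nat_lit 0x33000000000001), (nat_lit 0x65a000000000000), (nat_lit 0x474b000000000000), (nat_lit 0x474b), (nat_lit 0x1000000000001), (nat_lit 0x2d05a613d400000030000000000000000300000000), .ch [] (nat_lit 99) (nat_lit 99) (nat_lit 3)⟩,
  ⟨(nat_lit 0x30000000000001), (nat_lit 0xb4000000000000), (nat_lit 0x473e000000000000), (nat_lit 0x223e), (nat_lit 0x1000000000001), (nat_lit 0x5a623ec05a627a805a60000000000000000000300000000), .ch [] (nat_lit 99) (nat_lit 99) (nat_lit 3)⟩,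
  ⟨(nat_lit 0x30000000000001), (nat_lit 0xb4000000000000), (nat_lit 0x474b000000000000), (nat_lit 0x474b), (nat_lit 0x1000000000001), (nat_lit 0x5a045c405a024b005a00000000000000000000300000000), .ch [] (nat_lit 99) (nat_lit 99) (nat_lit 3)⟩,
  ⟨(nat_lit 0x2c000000000001), (nat_lit 0x417f00000000004b), (nat_lit 0x65a00000000065a), (nat_lit 0), (nat_lit 0x1000000000001), (nat_lit 0x59d1b870000002400000027000000000000000300000000), .ch [] (nat_lit 99) (nat_lit 99) (nat_lit 3)⟩,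
  ⟨(nat_lit 0x2c000000000001), (nat_lit 0x60600000000004b), (nat_lit 0x417f000000000606), (nat_lit 0), (nat_lit 0x1000000000001), (nat_lit 0x5a31a940000002400000027000000000000000300000000), .ch [] (nat_lit 99) (nat_lit 99) (nat_lit 3)⟩,
  ⟨(nat_lit 0x29000000000001), (nat_lit 0x61100000000004e), (nat_lit 0x417f000000000611), (nat_lit 0), (nat_lit 0x1000000000001), (nat_lit 0x2a0000002405970000000000000000000300000000), .ch [] (nat_lit 99) (nat_lit 99) (nat_lit 3)⟩,
  ⟨(nat_lit 0x29000000000001), (nat_lit 0x417f00000000004e), (nat_lit 0x66d00000000066d), (nat_lit 0), (nat_lit 0x1000000000001), (nat_lit 0x2a0000002405970000000000000000000300000000), .ch [] (nat_lit 99) (nat_lit 99) (nat_lit 3)⟩,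
  ⟨(nat_lit 0x27000000000000), (nat_lit 0x417f000000000000), (nat_lit 0xb4000000000000), (nat_lit 0), (nat_lit 0x1000000000003), (nat_lit 0x5973e8605973f9905970000000000000000000300000000), .tv (nat_lit 0x5a0027000000000001) (nat_lit 3) (nat_lit 261)⟩,
  ⟨(nat_lit 0x27000000000001), (nat_lit 0x419500000000004e), (nat_lit 0x66d00000000066d), (nat_lit 0), (nat_lit 0x1000000000001), (nat_lit 0x2a0000002405a30000000000000000000300000000), .ch [] (nat_lit 99) (nat_lit 99) (nat_lit 3)⟩,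
  ⟨(nat_lit 0x2b000000000001), (nat_lit 0x60600000000004b), (nat_lit 0x4195000000000606), (nat_lit 0), (nat_lit 0x1000000000001), (nat_lit 0x59d1a940000002400000027000000000000000300000000), .ch [] (nat_lit 99) (nat_lit 99) (nat_lit 3)⟩,
  ⟨(nat_lit 0x27000000000001), (nat_lit 0x4195000000000000), (nat_lit 0xb4000000000000), (nat_lit 0x2ac0), (nat_lit 0x1000000000001), (nat_lit 0x5a33e4b05a33cc005a30000000000000000000300000000), .ch [] (nat_lit 99) (nat_lit 99) (nat_lit 3)⟩,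
  ⟨(nat_lit 0x27000000000001), (nat_lit 0x4190000000000000), (nat_lit 0xb4000000000000), (nat_lit 0x4190), (nat_lit 0x1000000000001), (nat_lit 0x59d3db3059d3d93059d0000000000000000000300000000), .ch [] (nat_lit 99) (nat_lit 99) (nat_lit 3)⟩,
  ⟨(nat_lit 0x32000000000001), (nat_lit 0x6), (nat_lit 0x49e4), (nat_lit 0x49e4000000000000), (nat_lit 0x1000000000001), (nat_lit 0x5ad499e05ad23a405ad0000000000000000000900000000), .ch [] (nat_lit 99) (nat_lit 99) (nat_lit 90)⟩,
  ⟨(nat_lit 0x29000000000001), (nat_lit 0x6), (nat_lit 0x4358), (nat_lit 0x2c9d000000000000), (nat_lit 0x1000000000001), (nat_lit 0x5ae2d3b05ae2cd805ae0000000000000000000900000000), .ch [] (nat_lit 99) (nat_lit 99) (nat_lit 90)⟩,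
  ⟨(nat_lit 0x1b000000000000), (nat_lit 0), (nat_lit 0), (nat_lit 0x13b9000000000000), (nat_lit 0x13d50000000000000001000000070003), (nat_lit 0), .ch [] (nat_lit 99) (nat_lit 99) (nat_lit 81)⟩,
  ⟨(nat_lit 0x32000000000001), (nat_lit 0xb4), (nat_lit 0x49e4), (nat_lit 0x49e400000000231f), (nat_lit 0x1000000000001), (nat_lit 0x5ad016c05ad48e105ad0000000000000000000300000000), .ch [] (nat_lit 99) (nat_lit 99) (nat_lit 3)⟩,
  ⟨(nat_lit 0x32000000000001), (nat_lit 0x49e4), (nat_lit 0xba), (nat_lit 0x49e40000000049e4), (nat_lit 0x1000000000001), (nat_lit 0x5ad01b005ad026d05ad0000000000000000000300000000), .ch [] (nat_lit 99) (nat_lit 99) (nat_lit 3)⟩,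
  ⟨(nat_lit 0x32000000000000), (nat_lit 0), (nat_lit 0), (nat_lit 0x49e4000000000000), (nat_lit 0x1000000000003), (nat_lit 0x5ad00f305ad222c05ad0000000000000000000300000000), .tv (nat_lit 0x600030000000000001) (nat_lit 3) (nat_lit 243)⟩,
  ⟨(nat_lit 0x29000000000001), (nat_lit 0x4358), (nat_lit 0xb4), (nat_lit 0x2c9d000000004358), (nat_lit 0x1000000000001), (nat_lit 0x5ae2c7705ae2b6205ae0000000000000000000300000000), .ch [] (nat_lit 99) (nat_lit 99) (nat_lit 3)⟩,
  ⟨(nat_lit 0x29000000000000), (nat_lit 0), (nat_lit 0), (nat_lit 0x2c9d000000000000), (nat_lit 0x1000000000003), (nat_lit 0x5ae01e605ae00f305ae0000000000000000000300000000), .tv (nat_lit 0x5d0027000000000001) (nat_lit 3) (nat_lit 243)⟩,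
  ⟨(nat_lit 0x29000000000001), (nat_lit 0xb7), (nat_lit 0x4358), (nat_lit 0x2c9d000000002c9d), (nat_lit 0x1000000000001), (nat_lit 0x5ae02be05ae015f05ae0000000000000000000300000000), .ch [] (nat_lit 99) (nat_lit 99) (nat_lit 3)⟩,
  ⟨(nat_lit 0x32000000000001), (nat_lit 0x6), (nat_lit 0x48c2), (nat_lit 0x2412000000000000), (nat_lit 0x1000000000001), (nat_lit 0x5af008705af48e105af0000000000000000000900000000), .ch [] (nat_lit 99) (nat_lit 99) (nat_lit 90)⟩,
  ⟨(nat_lit 0x29000000000001), (nat_lit 0x6), (nat_lit 0x43ea), (nat_lit 0x43ea000000000000), (nat_lit 0x1000000000001), (nat_lit 0x5b000d805b02c7705b00000000000000000000900000000), .ch [] (nat_lit 99) (nat_lit 99) (nat_lit 90)⟩,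
  ⟨(nat_lit 0x1b000000000000), (nat_lit 0), (nat_lit 0), (nat_lit 0xa71000000000000), (nat_lit 0x12760000000000000001000000070003), (nat_lit 0), .ch [] (nat_lit 99) (nat_lit 99) (nat_lit 81)⟩,
  ⟨(nat_lit 0x32000000000001), (nat_lit 0xb4), (nat_lit 0x48c2), (nat_lit 0x24120000000048c2), (nat_lit 0x1000000000001), (nat_lit 0x5af499e05af02a305af0000000000000000000300000000), .ch [] (nat_lit 99) (nat_lit 99) (nat_lit 3)⟩,
  ⟨(nat_lit 0x32000000000001), (nat_lit 0x48c2), (nat_lit 0xba), (nat_lit 0x2412000000002412), (nat_lit 0x1000000000001), (nat_lit 0x5af01b005af026d05af0000000000000000000300000000), .ch [] (nat_lit 99) (nat_lit 99) (nat_lit 3)⟩,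
  ⟨(nat_lit 0x32000000000000), (nat_lit 0), (nat_lit 0), (nat_lit 0x2412000000000000), (nat_lit 0x1000000000003), (nat_lit 0x5af00f305af01e605af0000000000000000000300000000), .tv (nat_lit 0x600030000000000001) (nat_lit 3) (nat_lit 243)⟩,
  ⟨(nat_lit 0x29000000000001), (nat_lit 0x43ea), (nat_lit 0xb4), (nat_lit 0x43ea000000002baa), (nat_lit 0x1000000000001), (nat_lit 0x5b0025205b02d3b05b00000000000000000000300000000), .ch [] (nat_lit 99) (nat_lit 99) (nat_lit 3)⟩,
  ⟨(nat_lit 0x29000000000000), (nat_lit 0), (nat_lit 0), (nat_lit 0x43ea000000000000), (nat_lit 0x1000000000003), (nat_lit 0x5b001e605b000f305b00000000000000000000300000000), .tv (nat_lit 0x5d0027000000000001) (nat_lit 3) (nat_lit 243)⟩,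
  ⟨(nat_lit 0x29000000000001), (nat_lit 0xb7), (nat_lit 0x43ea), (nat_lit 0x43ea0000000043ea), (nat_lit 0x1000000000001), (nat_lit 0x5b002be05b0015f05b00000000000000000000300000000), .ch [] (nat_lit 99) (nat_lit 99) (nat_lit 3)⟩,
  ⟨(nat_lit 0x1), (nat_lit 0x12), (nat_lit 0x65a), (nat_lit 0), (nat_lit 0x353200000000000000000000000000000001), (nat_lit 0x5b138f405b11f5305b1205000000000000000f300000000), .ch [] (nat_lit 99) (nat_lit 99) (nat_lit 3)⟩,
  ⟨(nat_lit 0x1), (nat_lit 0x18), (nat_lit 0x65a), (nat_lit 0), (nat_lit 0x386900000000000000000000000000000001), (nat_lit 0x5b11c6d05b119a105b11b19000000000000015f00000000), .ch [] (nat_lit 99) (nat_lit 99) (nat_lit 3)⟩,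
  ⟨(nat_lit 0x1), (nat_lit 0x15), (nat_lit 0x65a), (nat_lit 0), (nat_lit 0x3b8200000000000000000000000000000001), (nat_lit 0x5b100f305b102a305b1008700000000000001b000000000), .ch [] (nat_lit 99) (nat_lit 99) (nat_lit 3)⟩,
  ⟨(nat_lit 0x1), (nat_lit 0x6), (nat_lit 0x3528), (nat_lit 0), (nat_lit 0x658000000000000000000000001), (nat_lit 0x5b11de605b1003605b10000000000000000001b00000000), .ch [] (nat_lit 99) (nat_lit 99) (nat_lit 9)⟩,
  ⟨(nat_lit 0x1), (nat_lit 0), (nat_lit 0), (nat_lit 0x3565), (nat_lit 0x357000000000000000000000000000000001), (nat_lit 0x5b21c0c05b21a2605b21b1900000000000000f300000000), .ch [] (nat_lit 99) (nat_lit 99) (nat_lit 3)⟩,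
  ⟨(nat_lit 0x1), (nat_lit 0), (nat_lit 0), (nat_lit 0x3565), (nat_lit 0x389b00000000000000000000000000000001), (nat_lit 0x5b21e6b05b201e605b2006c000000000000015f00000000), .ch [] (nat_lit 99) (nat_lit 99) (nat_lit 3)⟩,
  ⟨(nat_lit 0x1), (nat_lit 0), (nat_lit 0), (nat_lit 0x3565), (nat_lit 0x3bb400000000000000000000000000000001), (nat_lit 0x5b200f305b202a305b2205000000000000001b000000000), .ch [] (nat_lit 99) (nat_lit 99) (nat_lit 3)⟩,
  ⟨(nat_lit 0x1), (nat_lit 0), (nat_lit 0), (nat_lit 0x3565), (nat_lit 0x658000000000000000000000001), (nat_lit 0x5b2352805b21a9405b20000000000000000001b00000000), .ch [] (nat_lit 99) (nat_lit 99) (nat_lit 9)⟩,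
  ⟨(nat_lit 0x1), (nat_lit 0x12), (nat_lit 0x65a), (nat_lit 0), (nat_lit 0x355100000000000000000000000000000001), (nat_lit 0x5b31c2505b334ae05b305b200000000000000f300000000), .ch [] (nat_lit 99) (nat_lit 99) (nat_lit 3)⟩,
  ⟨(nat_lit 0x1), (nat_lit 0x18), (nat_lit 0x65a), (nat_lit 0), (nat_lit 0x388800000000000000000000000000000001), (nat_lit 0x5b3361b05b301e605b32050000000000000015f00000000), .ch [] (nat_lit 99) (nat_lit 99) (nat_lit 3)⟩,
  ⟨(nat_lit 0x1), (nat_lit 0x15), (nat_lit 0x65a), (nat_lit 0), (nat_lit 0x3b9e00000000000000000000000000000001), (nat_lit 0x5b300f305b31c7a05b31b1900000000000001b000000000), .ch [] (nat_lit 99) (nat_lit 99) (nat_lit 3)⟩,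
  ⟨(nat_lit 0x1), (nat_lit 0), (nat_lit 0), (nat_lit 0x1aca), (nat_lit 0x658000000000000000000000001), (nat_lit 0x5b31a9405b3352805b30000000000000000001b00000000), .ch [] (nat_lit 99) (nat_lit 99) (nat_lit 9)⟩,
  ⟨(nat_lit 0x1), (nat_lit 0x12), (nat_lit 0x606), (nat_lit 0), (nat_lit 0x344800000000000000000000000000000001), (nat_lit 0x5b41f5305b438f405b405b200000000000000f300000000), .ch [] (nat_lit 99) (nat_lit 99) (nat_lit 3)⟩,
  ⟨(nat_lit 0x1), (nat_lit 0x18), (nat_lit 0x606), (nat_lit 0), (nat_lit 0x37c200000000000000000000000000000001), (nat_lit 0x5b419a105b41b1905b41c6d000000000000015f00000000), .ch [] (nat_lit 99) (nat_lit 99) (nat_lit 3)⟩,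
  ⟨(nat_lit 0x1), (nat_lit 0x15), (nat_lit 0x606), (nat_lit 0), (nat_lit 0x3a4000000000000000000000000000000001), (nat_lit 0x5b435c005b4334205b4350800000000000001b000000000), .ch [] (nat_lit 99) (nat_lit 99) (nat_lit 3)⟩,
  ⟨(nat_lit 0x1), (nat_lit 0x6), (nat_lit 0x3435), (nat_lit 0), (nat_lit 0x60a000000000000000000000001), (nat_lit 0x5b437db05b41bc205b40000000000000000001b00000000), .ch [] (nat_lit 99) (nat_lit 99) (nat_lit 9)⟩,
  ⟨(nat_lit 0x1), (nat_lit 0x12), (nat_lit 0x606), (nat_lit 0), (nat_lit 0x346700000000000000000000000000000001), (nat_lit 0x5b506af05b507ac05b505b200000000000000f300000000), .ch [] (nat_lit 99) (nat_lit 99) (nat_lit 3)⟩,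
  ⟨(nat_lit 0x1), (nat_lit 0x18), (nat_lit 0x606), (nat_lit 0), (nat_lit 0x37d500000000000000000000000000000001), (nat_lit 0x5b500f305b51d8005b539f1000000000000015f00000000), .ch [] (nat_lit 99) (nat_lit 99) (nat_lit 3)⟩,
  ⟨(nat_lit 0x1), (nat_lit 0x15), (nat_lit 0x606), (nat_lit 0), (nat_lit 0x3a5600000000000000000000000000000001), (nat_lit 0x5b5380c05b501e605b5214d00000000000001b000000000), .ch [] (nat_lit 99) (nat_lit 99) (nat_lit 3)⟩,
  ⟨(nat_lit 0x1), (nat_lit 0), (nat_lit 0), (nat_lit 0x1bbd), (nat_lit 0x60a000000000000000000000001), (nat_lit 0x5b51b8705b5343505b50000000000000000001b00000000), .ch [] (nat_lit 99) (nat_lit 99) (nat_lit 9)⟩,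
  ⟨(nat_lit 0x1), (nat_lit 0), (nat_lit 0), (nat_lit 0x3472), (nat_lit 0x348600000000000000000000000000000001), (nat_lit 0x5b606af05b61b6105b605b200000000000000f300000000), .ch [] (nat_lit 99) (nat_lit 99) (nat_lit 3)⟩,
  ⟨(nat_lit 0x1), (nat_lit 0), (nat_lit 0), (nat_lit 0x3472), (nat_lit 0x37f400000000000000000000000000000001), (nat_lit 0x5b600f305b6361b05b63508000000000000015f00000000), .ch [] (nat_lit 99) (nat_lit 99) (nat_lit 3)⟩,
  ⟨(nat_lit 0x1), (nat_lit 0), (nat_lit 0), (nat_lit 0x3472), (nat_lit 0x3a7200000000000000000000000000000001), (nat_lit 0x5b61c7a05b601e605b639f100000000000001b000000000), .ch [] (nat_lit 99) (nat_lit 99) (nat_lit 3)⟩,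
  ⟨(nat_lit 0x1), (nat_lit 0), (nat_lit 0), (nat_lit 0x3472), (nat_lit 0x60a000000000000000000000001), (nat_lit 0x5b6343505b61b8705b60000000000000000001b00000000), .ch [] (nat_lit 99) (nat_lit 99) (nat_lit 9)⟩,
  ⟨(nat_lit 0x1), (nat_lit 0), (nat_lit 0), (nat_lit 0x7ab), (nat_lit 0x334300000000000000000000000000000001), (nat_lit 0x5b700f305b701e605b7000000000000000000f300000000), .ch [] (nat_lit 99) (nat_lit 99) (nat_lit 3)⟩,
  ⟨(nat_lit 0x1), (nat_lit 0), (nat_lit 0), (nat_lit 0x4bf), (nat_lit 0x334300000000000000000000000000000001), (nat_lit 0x5b800f305b801e605b8000000000000000000f300000000), .ch [] (nat_lit 99) (nat_lit 99) (nat_lit 3)⟩,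
  ⟨(nat_lit 0), (nat_lit 0), (nat_lit 0), (nat_lit 0), (nat_lit 0x33430000000001e700000000001300000003), (nat_lit 0), .tv (nat_lit 0xf300000000000900000001) (nat_lit 3) (nat_lit 81)⟩,
  ⟨(nat_lit 0x1), (nat_lit 0), (nat_lit 0), (nat_lit 0x7ab), (nat_lit 0x371100000000000000000000000000000001), (nat_lit 0x5b7015f05b702be05b70000000000000000015f00000000), .ch [] (nat_lit 99) (nat_lit 99) (nat_lit 3)⟩,
  ⟨(nat_lit 0x1), (nat_lit 0), (nat_lit 0), (nat_lit 0x7ab), (nat_lit 0x3aef00000000000000000000000000000001), (nat_lit 0x5b701b005b7026d05b7000000000000000001b000000000), .ch [] (nat_lit 99) (nat_lit 99) (nat_lit 3)⟩,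
  ⟨(nat_lit 0x1), (nat_lit 0), (nat_lit 0), (nat_lit 0x7ab), (nat_lit 0x7ad000000000000000000000001), (nat_lit 0x5b71da205b7216f05b70000000000000000001b00000000), .ch [] (nat_lit 99) (nat_lit 99) (nat_lit 9)⟩,
  ⟨(nat_lit 0x1), (nat_lit 0x18), (nat_lit 0x3342), (nat_lit 0), (nat_lit 0x380300000000000000000000000000000001), (nat_lit 0x5b8015f05b802be05b80000000000000000015f00000000), .ch [] (nat_lit 99) (nat_lit 99) (nat_lit 3)⟩,
  ⟨(nat_lit 0x1), (nat_lit 0x3342), (nat_lit 0x15), (nat_lit 0), (nat_lit 0x39f200000000000000000000000000000001), (nat_lit 0x5b801b005b8026d05b8000000000000000001b000000000), .ch [] (nat_lit 99) (nat_lit 99) (nat_lit 3)⟩,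
  ⟨(nat_lit 0x1), (nat_lit 0x6), (nat_lit 0x3342), (nat_lit 0), (nat_lit 0x6b0000000000000000000000001), (nat_lit 0x5b8206105b81ea305b80000000000000000001b00000000), .ch [] (nat_lit 99) (nat_lit 99) (nat_lit 9)⟩,
  ⟨(nat_lit 0x1), (nat_lit 0), (nat_lit 0), (nat_lit 0x7c6), (nat_lit 0x3b6f00000000000000000000000000000001), (nat_lit 0x5b900f305b920b205b91d8000000000000001b000000000), .ch [] (nat_lit 99) (nat_lit 99) (nat_lit 3)⟩,
  ⟨(nat_lit 0x1), (nat_lit 0), (nat_lit 0), (nat_lit 0x4da), (nat_lit 0x38e600000000000000000000000000000001), (nat_lit 0x5ba00f305ba1e2a05ba2050000000000000015f00000000), .ch [] (nat_lit 99) (nat_lit 99) (nat_lit 3)⟩,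
  ⟨(nat_lit 0x1), (nat_lit 0), (nat_lit 0), (nat_lit 0x7c6), (nat_lit 0x33c500000000000000000000000000000001), (nat_lit 0x5b91f5305b9205005b9214d00000000000000f300000000), .ch [] (nat_lit 99) (nat_lit 99) (nat_lit 3)⟩,
  ⟨(nat_lit 0x1), (nat_lit 0), (nat_lit 0), (nat_lit 0x7c6), (nat_lit 0x377700000000000000000000000000000001), (nat_lit 0x5b9343505b901e605b919a1000000000000015f00000000), .ch [] (nat_lit 99) (nat_lit 99) (nat_lit 3)⟩,
  ⟨(nat_lit 0x1), (nat_lit 0), (nat_lit 0), (nat_lit 0x7c6), (nat_lit 0x7ce000000000000000000000001), (nat_lit 0x5b9377a05b9221105b90000000000000000001b00000000), .ch [] (nat_lit 99) (nat_lit 99) (nat_lit 9)⟩,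
  ⟨(nat_lit 0x1), (nat_lit 0), (nat_lit 0), (nat_lit 0x4da), (nat_lit 0x340d00000000000000000000000000000001), (nat_lit 0x5ba1c7a05ba1d8005ba1e6b00000000000000f300000000), .ch [] (nat_lit 99) (nat_lit 99) (nat_lit 3)⟩,
  ⟨(nat_lit 0x1), (nat_lit 0), (nat_lit 0), (nat_lit 0x4da), (nat_lit 0x3aa000000000000000000000000000000001), (nat_lit 0x5ba343505ba01e605ba19a100000000000001b000000000), .ch [] (nat_lit 99) (nat_lit 99) (nat_lit 3)⟩,
  ⟨(nat_lit 0x1), (nat_lit 0), (nat_lit 0), (nat_lit 0x4da), (nat_lit 0x6e9000000000000000000000001), (nat_lit 0x5ba3ab405ba1ee705ba0000000000000000001b00000000), .ch [] (nat_lit 99) (nat_lit 99) (nat_lit 9)⟩,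
  ⟨(nat_lit 0x1), (nat_lit 0), (nat_lit 0), (nat_lit 0x7c6), (nat_lit 0x379300000000000000000000000000000001), (nat_lit 0x5bb1ee705bb01e605bb214d000000000000015f00000000), .ch [] (nat_lit 99) (nat_lit 99) (nat_lit 3)⟩,
  ⟨(nat_lit 0x1), (nat_lit 0), (nat_lit 0), (nat_lit 0x3433), (nat_lit 0x3abf00000000000000000000000000000001), (nat_lit 0x5bc221105bc01e605bc1e6b00000000000001b000000000), .ch [] (nat_lit 99) (nat_lit 99) (nat_lit 3)⟩,
  ⟨(nat_lit 0x1), (nat_lit 0), (nat_lit 0), (nat_lit 0x7c6), (nat_lit 0x33e400000000000000000000000000000001), (nat_lit 0x5bb1e6b05bb1c7a05bb1d8000000000000000f300000000), .ch [] (nat_lit 99) (nat_lit 99) (nat_lit 3)⟩,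
  ⟨(nat_lit 0x1), (nat_lit 0), (nat_lit 0), (nat_lit 0x7c6), (nat_lit 0x3b3d00000000000000000000000000000001), (nat_lit 0x5bb00f305bb352805bb19a100000000000001b000000000), .ch [] (nat_lit 99) (nat_lit 99) (nat_lit 3)⟩,
  ⟨(nat_lit 0x1), (nat_lit 0), (nat_lit 0), (nat_lit 0x7c6), (nat_lit 0x7ce000000000000000000000001), (nat_lit 0x5bb1e2a05bb220005bb0000000000000000001b00000000), .ch [] (nat_lit 99) (nat_lit 99) (nat_lit 9)⟩,
  ⟨(nat_lit 0x1), (nat_lit 0), (nat_lit 0), (nat_lit 0x3433), (nat_lit 0x342c00000000000000000000000000000001), (nat_lit 0x5bc214d05bc1f5305bc205000000000000000f300000000), .ch [] (nat_lit 99) (nat_lit 99) (nat_lit 3)⟩,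
  ⟨(nat_lit 0x1), (nat_lit 0), (nat_lit 0), (nat_lit 0x3433), (nat_lit 0x38b400000000000000000000000000000001), (nat_lit 0x5bc00f305bc352805bc19a1000000000000015f00000000), .ch [] (nat_lit 99) (nat_lit 99) (nat_lit 3)⟩,
  ⟨(nat_lit 0x1), (nat_lit 0), (nat_lit 0), (nat_lit 0x3433), (nat_lit 0x6e9000000000000000000000001), (nat_lit 0x5bc20b205bc1ed105bc0000000000000000001b00000000), .ch [] (nat_lit 99) (nat_lit 99) (nat_lit 9)⟩,
  ⟨(nat_lit 0), (nat_lit 0), (nat_lit 0), (nat_lit 0), (nat_lit 0x33f70000000001e700000000001300000003), (nat_lit 0), .tv (nat_lit 0xf300000000000900000001) (nat_lit 3) (nat_lit 81)⟩,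
  ⟨(nat_lit 0), (nat_lit 0), (nat_lit 0), (nat_lit 0), (nat_lit 0x339d0000000001e700000000001300000003), (nat_lit 0), .tv (nat_lit 0xf300000000000900000001) (nat_lit 3) (nat_lit 81)⟩,
  ⟨(nat_lit 0x1), (nat_lit 0), (nat_lit 0), (nat_lit 0x7e1), (nat_lit 0x3bb400000000000000000000000000000001), (nat_lit 0x5bd380c05bd01e605bd214d00000000000001b000000000), .ch [] (nat_lit 99) (nat_lit 99) (nat_lit 3)⟩,
  ⟨(nat_lit 0x1), (nat_lit 0), (nat_lit 0), (nat_lit 0x33d9), (nat_lit 0x33db0000000001e700000000001300000001), (nat_lit 0), .ch [] (nat_lit 99) (nat_lit 99) (nat_lit 3)⟩,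
  ⟨(nat_lit 0x1), (nat_lit 0), (nat_lit 0), (nat_lit 0x7e1), (nat_lit 0x33ee00000000000000000000000000000001), (nat_lit 0x5bd1a9405bd1b8705bd19a100000000000000f300000000), .ch [] (nat_lit 99) (nat_lit 99) (nat_lit 3)⟩,
  ⟨(nat_lit 0x1), (nat_lit 0), (nat_lit 0), (nat_lit 0x7e1), (nat_lit 0x37d500000000000000000000000000000001), (nat_lit 0x5bd00f305bd025205bd1d80000000000000015f00000000), .ch [] (nat_lit 99) (nat_lit 99) (nat_lit 3)⟩,
  ⟨(nat_lit 0x1), (nat_lit 0), (nat_lit 0), (nat_lit 0x7e1), (nat_lit 0x7e6000000000000000000000001), (nat_lit 0x5bd1a2605bd21af05bd0000000000000000001b00000000), .ch [] (nat_lit 99) (nat_lit 99) (nat_lit 9)⟩,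
  ⟨(nat_lit 0x1), (nat_lit 0x339c), (nat_lit 0x15), (nat_lit 0), (nat_lit 0x3a5600000000000000000000000000000001), (nat_lit 0x5be00f305be02a305be205000000000000001b000000000), .ch [] (nat_lit 99) (nat_lit 99) (nat_lit 3)⟩,
  ⟨(nat_lit 0x1), (nat_lit 0), (nat_lit 0), (nat_lit 0x1a28), (nat_lit 0x34160000000001e700000000001300000001), (nat_lit 0), .ch [] (nat_lit 99) (nat_lit 99) (nat_lit 3)⟩,
  ⟨(nat_lit 0x1), (nat_lit 0), (nat_lit 0), (nat_lit 0x4f5), (nat_lit 0x33a600000000000000000000000000000001), (nat_lit 0x5be1a9405be1b8705be19a100000000000000f300000000), .ch [] (nat_lit 99) (nat_lit 99) (nat_lit 3)⟩,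
  ⟨(nat_lit 0x1), (nat_lit 0x18), (nat_lit 0x339c), (nat_lit 0), (nat_lit 0x389b00000000000000000000000000000001), (nat_lit 0x5be3aee05be01e605be1e6b000000000000015f00000000), .ch [] (nat_lit 99) (nat_lit 99) (nat_lit 3)⟩]
theorem ok1252 : (clsL cls (nat_lit 1480) spl rc1252 (nat_lit 1252) && Nat.beq rc1252.length 120) = true := by decide +kernel

noncomputable def rc1372 : List Rc := [⟨(nat_lit 0x1), (nat_lit 0x6), (nat_lit 0x339c), (nat_lit 0), (nat_lit 0x6d1000000000000000000000001), (nat_lit 0x5be1a6e05be1f3005be0000000000000000001b00000000), .ch [] (nat_lit 99) (nat_lit 99) (nat_lit 9)⟩,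
  ⟨(nat_lit 0x1), (nat_lit 0), (nat_lit 0), (nat_lit 0x3433), (nat_lit 0x34350000000001e700000000001300000001), (nat_lit 0), .ch [] (nat_lit 99) (nat_lit 99) (nat_lit 3)⟩,
  ⟨(nat_lit 0x1), (nat_lit 0), (nat_lit 0), (nat_lit 0x1a79), (nat_lit 0x33bc0000000001e700000000001300000001), (nat_lit 0), .ch [] (nat_lit 99) (nat_lit 99) (nat_lit 3)⟩,
  ⟨(nat_lit 0x1), (nat_lit 0), (nat_lit 0), (nat_lit 0x4da), (nat_lit 0x33ee00000000000000000000000000000001), (nat_lit 0x5bf1a9405bf1b8705bf19a100000000000000f300000000), .ch [] (nat_lit 99) (nat_lit 99) (nat_lit 3)⟩,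
  ⟨(nat_lit 0x1), (nat_lit 0x18), (nat_lit 0x33f6), (nat_lit 0), (nat_lit 0x38ca00000000000000000000000000000001), (nat_lit 0x5bf00f305bf38f405bf3a6c000000000000015f00000000), .ch [] (nat_lit 99) (nat_lit 99) (nat_lit 3)⟩,
  ⟨(nat_lit 0x1), (nat_lit 0x33f6), (nat_lit 0x15), (nat_lit 0), (nat_lit 0x3ad200000000000000000000000000000001), (nat_lit 0x5bf361b05bf01e605bf205000000000000001b000000000), .ch [] (nat_lit 99) (nat_lit 99) (nat_lit 3)⟩,
  ⟨(nat_lit 0x1), (nat_lit 0x6), (nat_lit 0x33f6), (nat_lit 0), (nat_lit 0x6e9000000000000000000000001), (nat_lit 0x5bf1ee705bf20b205bf0000000000000000001b00000000), .ch [] (nat_lit 99) (nat_lit 99) (nat_lit 9)⟩,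
  ⟨(nat_lit 0x1), (nat_lit 0), (nat_lit 0), (nat_lit 0x33d9), (nat_lit 0x33e400000000000000000000000000000001), (nat_lit 0x5c01c7a05c01d8005c01e6b00000000000000f300000000), .ch [] (nat_lit 99) (nat_lit 99) (nat_lit 3)⟩,
  ⟨(nat_lit 0x1), (nat_lit 0), (nat_lit 0), (nat_lit 0x33d9), (nat_lit 0x388800000000000000000000000000000001), (nat_lit 0x5c0361b05c001e605c02050000000000000015f00000000), .ch [] (nat_lit 99) (nat_lit 99) (nat_lit 3)⟩,
  ⟨(nat_lit 0x1), (nat_lit 0), (nat_lit 0), (nat_lit 0x33d9), (nat_lit 0x3a4000000000000000000000000000000001), (nat_lit 0x5c000f305c0352805c019a100000000000001b000000000), .ch [] (nat_lit 99) (nat_lit 99) (nat_lit 3)⟩,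
  ⟨(nat_lit 0x1), (nat_lit 0), (nat_lit 0), (nat_lit 0x33d9), (nat_lit 0x6d1000000000000000000000001), (nat_lit 0x5c03a6c05c0210305c00000000000000000001b00000000), .ch [] (nat_lit 99) (nat_lit 99) (nat_lit 9)⟩,
  ⟨(nat_lit 0x1), (nat_lit 0), (nat_lit 0), (nat_lit 0x7c6), (nat_lit 0x33a600000000000000000000000000000001), (nat_lit 0x5c11a9405c11b8705c119a100000000000000f300000000), .ch [] (nat_lit 99) (nat_lit 99) (nat_lit 3)⟩,
  ⟨(nat_lit 0x1), (nat_lit 0), (nat_lit 0), (nat_lit 0x7c6), (nat_lit 0x37a900000000000000000000000000000001), (nat_lit 0x5c138f405c101e605c11d80000000000000015f00000000), .ch [] (nat_lit 99) (nat_lit 99) (nat_lit 3)⟩,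
  ⟨(nat_lit 0x1), (nat_lit 0), (nat_lit 0), (nat_lit 0x7c6), (nat_lit 0x3b5000000000000000000000000000000001), (nat_lit 0x5c100f305c1361b05c137db00000000000001b000000000), .ch [] (nat_lit 99) (nat_lit 99) (nat_lit 3)⟩,
  ⟨(nat_lit 0x1), (nat_lit 0), (nat_lit 0), (nat_lit 0x7c6), (nat_lit 0x7ce000000000000000000000001), (nat_lit 0x5c1221105c11e2a05c10000000000000000001b00000000), .ch [] (nat_lit 99) (nat_lit 99) (nat_lit 9)⟩,
  ⟨(nat_lit 0x1), (nat_lit 0), (nat_lit 0), (nat_lit 0x7e1), (nat_lit 0x340d00000000000000000000000000000001), (nat_lit 0x5c234ae05c21c7a05c21d8000000000000000f300000000), .ch [] (nat_lit 99) (nat_lit 99) (nat_lit 3)⟩,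
  ⟨(nat_lit 0x1), (nat_lit 0), (nat_lit 0), (nat_lit 0x7e1), (nat_lit 0x37f400000000000000000000000000000001), (nat_lit 0x5c200f305c2361b05c2377a000000000000015f00000000), .ch [] (nat_lit 99) (nat_lit 99) (nat_lit 3)⟩,
  ⟨(nat_lit 0x1), (nat_lit 0), (nat_lit 0), (nat_lit 0x7e1), (nat_lit 0x3b8200000000000000000000000000000001), (nat_lit 0x5c2343505c201e605c219a100000000000001b000000000), .ch [] (nat_lit 99) (nat_lit 99) (nat_lit 3)⟩,
  ⟨(nat_lit 0x1), (nat_lit 0), (nat_lit 0), (nat_lit 0x7e1), (nat_lit 0x7e6000000000000000000000001), (nat_lit 0x5c21de605c237db05c20000000000000000001b00000000), .ch [] (nat_lit 99) (nat_lit 99) (nat_lit 9)⟩,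
  ⟨(nat_lit 0x1), (nat_lit 0), (nat_lit 0), (nat_lit 0x7e1), (nat_lit 0x342c00000000000000000000000000000001), (nat_lit 0x5c31f5305c3205005c3214d00000000000000f300000000), .ch [] (nat_lit 99) (nat_lit 99) (nat_lit 3)⟩,
  ⟨(nat_lit 0x1), (nat_lit 0), (nat_lit 0), (nat_lit 0x7e1), (nat_lit 0x37c200000000000000000000000000000001), (nat_lit 0x5c300f305c3352805c319a1000000000000015f00000000), .ch [] (nat_lit 99) (nat_lit 99) (nat_lit 3)⟩,
  ⟨(nat_lit 0x1), (nat_lit 0), (nat_lit 0), (nat_lit 0x7e1), (nat_lit 0x3b9e00000000000000000000000000000001), (nat_lit 0x5c338f405c301e605c31d8000000000000001b000000000), .ch [] (nat_lit 99) (nat_lit 99) (nat_lit 3)⟩,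
  ⟨(nat_lit 0x1), (nat_lit 0), (nat_lit 0), (nat_lit 0x7e1), (nat_lit 0x7e6000000000000000000000001), (nat_lit 0x5c337db05c31de605c30000000000000000001b00000000), .ch [] (nat_lit 99) (nat_lit 99) (nat_lit 9)⟩,
  ⟨(nat_lit 0x1), (nat_lit 0), (nat_lit 0), (nat_lit 0x4f5), (nat_lit 0x33c500000000000000000000000000000001), (nat_lit 0x5c4350805c41f5305c4205000000000000000f300000000), .ch [] (nat_lit 99) (nat_lit 99) (nat_lit 3)⟩,
  ⟨(nat_lit 0x1), (nat_lit 0), (nat_lit 0), (nat_lit 0x4f5), (nat_lit 0x386900000000000000000000000000000001), (nat_lit 0x5c4343505c401e605c419a1000000000000015f00000000), .ch [] (nat_lit 99) (nat_lit 99) (nat_lit 3)⟩,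
  ⟨(nat_lit 0x1), (nat_lit 0), (nat_lit 0), (nat_lit 0x4f5), (nat_lit 0x3a7200000000000000000000000000000001), (nat_lit 0x5c400f305c438f405c43ab400000000000001b000000000), .ch [] (nat_lit 99) (nat_lit 99) (nat_lit 3)⟩,
  ⟨(nat_lit 0x1), (nat_lit 0), (nat_lit 0), (nat_lit 0x4f5), (nat_lit 0x6d1000000000000000000000001), (nat_lit 0x5c4210305c43a6c05c40000000000000000001b00000000), .ch [] (nat_lit 99) (nat_lit 99) (nat_lit 9)⟩,
  ⟨(nat_lit 0x1), (nat_lit 0), (nat_lit 0), (nat_lit 0x7ab), (nat_lit 0x336200000000000000000000000000000001), (nat_lit 0x5c500f305c501e605c5000000000000000000f300000000), .ch [] (nat_lit 99) (nat_lit 99) (nat_lit 3)⟩,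
  ⟨(nat_lit 0x1), (nat_lit 0), (nat_lit 0), (nat_lit 0x7ab), (nat_lit 0x372d00000000000000000000000000000001), (nat_lit 0x5c5015f05c502be05c50000000000000000015f00000000), .ch [] (nat_lit 99) (nat_lit 99) (nat_lit 3)⟩,
  ⟨(nat_lit 0x1), (nat_lit 0), (nat_lit 0), (nat_lit 0x7ab), (nat_lit 0x3b0b00000000000000000000000000000001), (nat_lit 0x5c501b005c520b205c5000000000000000001b000000000), .ch [] (nat_lit 99) (nat_lit 99) (nat_lit 3)⟩,
  ⟨(nat_lit 0x1), (nat_lit 0), (nat_lit 0), (nat_lit 0x7ab), (nat_lit 0x7ad000000000000000000000001), (nat_lit 0x5c519a105c5334205c50000000000000000001b00000000), .ch [] (nat_lit 99) (nat_lit 99) (nat_lit 9)⟩,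
  ⟨(nat_lit 0x1), (nat_lit 0), (nat_lit 0), (nat_lit 0x7ab), (nat_lit 0x338100000000000000000000000000000001), (nat_lit 0x5c600f305c601e605c6000000000000000000f300000000), .ch [] (nat_lit 99) (nat_lit 99) (nat_lit 3)⟩,
  ⟨(nat_lit 0x1), (nat_lit 0), (nat_lit 0), (nat_lit 0x7ab), (nat_lit 0x374c00000000000000000000000000000001), (nat_lit 0x5c6015f05c602be05c60000000000000000015f00000000), .ch [] (nat_lit 99) (nat_lit 99) (nat_lit 3)⟩,
  ⟨(nat_lit 0x1), (nat_lit 0), (nat_lit 0), (nat_lit 0x7ab), (nat_lit 0x3b2a00000000000000000000000000000001), (nat_lit 0x5c601b005c6026d05c6000000000000000001b000000000), .ch [] (nat_lit 99) (nat_lit 99) (nat_lit 3)⟩,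
  ⟨(nat_lit 0x1), (nat_lit 0), (nat_lit 0), (nat_lit 0x7ab), (nat_lit 0x7ad000000000000000000000001), (nat_lit 0x5c6334205c619a105c60000000000000000001b00000000), .ch [] (nat_lit 99) (nat_lit 99) (nat_lit 9)⟩,
  ⟨(nat_lit 0x1), (nat_lit 0), (nat_lit 0), (nat_lit 0x19d7), (nat_lit 0x33620000000001e700000000001300000001), (nat_lit 0), .ch [] (nat_lit 99) (nat_lit 99) (nat_lit 3)⟩,
  ⟨(nat_lit 0x1), (nat_lit 0), (nat_lit 0), (nat_lit 0x337f), (nat_lit 0x338100000000000000000000000000000001), (nat_lit 0x5c700f305c701e605c7000000000000000000f300000000), .ch [] (nat_lit 99) (nat_lit 99) (nat_lit 3)⟩,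
  ⟨(nat_lit 0x1), (nat_lit 0), (nat_lit 0), (nat_lit 0x337f), (nat_lit 0x383e00000000000000000000000000000001), (nat_lit 0x5c7015f05c702be05c70000000000000000015f00000000), .ch [] (nat_lit 99) (nat_lit 99) (nat_lit 3)⟩,
  ⟨(nat_lit 0x1), (nat_lit 0), (nat_lit 0), (nat_lit 0x337f), (nat_lit 0x3a2d00000000000000000000000000000001), (nat_lit 0x5c701b005c7026d05c7000000000000000001b000000000), .ch [] (nat_lit 99) (nat_lit 99) (nat_lit 3)⟩,
  ⟨(nat_lit 0x1), (nat_lit 0), (nat_lit 0), (nat_lit 0x337f), (nat_lit 0x6b0000000000000000000000001), (nat_lit 0x5c7334205c719a105c70000000000000000001b00000000), .ch [] (nat_lit 99) (nat_lit 99) (nat_lit 9)⟩,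
  ⟨(nat_lit 0x1), (nat_lit 0), (nat_lit 0), (nat_lit 0x4bf), (nat_lit 0x336200000000000000000000000000000001), (nat_lit 0x5c800f305c801e605c8000000000000000000f300000000), .ch [] (nat_lit 99) (nat_lit 99) (nat_lit 3)⟩,
  ⟨(nat_lit 0x1), (nat_lit 0), (nat_lit 0), (nat_lit 0x4bf), (nat_lit 0x382200000000000000000000000000000001), (nat_lit 0x5c8015f05c81e2a05c80000000000000000015f00000000), .ch [] (nat_lit 99) (nat_lit 99) (nat_lit 3)⟩,
  ⟨(nat_lit 0x1), (nat_lit 0), (nat_lit 0), (nat_lit 0x4bf), (nat_lit 0x3a1100000000000000000000000000000001), (nat_lit 0x5c801b005c81de605c8000000000000000001b000000000), .ch [] (nat_lit 99) (nat_lit 99) (nat_lit 3)⟩,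
  ⟨(nat_lit 0x1), (nat_lit 0), (nat_lit 0), (nat_lit 0x4bf), (nat_lit 0x6b0000000000000000000000001), (nat_lit 0x5c819a105c8334205c80000000000000000001b00000000), .ch [] (nat_lit 99) (nat_lit 99) (nat_lit 9)⟩,
  ⟨(nat_lit 0x1), (nat_lit 0), (nat_lit 0), (nat_lit 0x337f), (nat_lit 0x33810000000001e700000000001300000001), (nat_lit 0), .ch [] (nat_lit 99) (nat_lit 99) (nat_lit 3)⟩,
  ⟨(nat_lit 0x1), (nat_lit 0), (nat_lit 0), (nat_lit 0x7ab), (nat_lit 0x7ad000000000037000000070001), (nat_lit 0), .ch [] (nat_lit 99) (nat_lit 99) (nat_lit 9)⟩,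
  ⟨(nat_lit 0x1), (nat_lit 0), (nat_lit 0), (nat_lit 0x4bf), (nat_lit 0x6b0000000000037000000070001), (nat_lit 0), .ch [] (nat_lit 99) (nat_lit 99) (nat_lit 9)⟩,
  ⟨(nat_lit 0), (nat_lit 0), (nat_lit 0), (nat_lit 0), (nat_lit 0x3343000005b3000000000000000000000003), (nat_lit 0), .tv (nat_lit 0x2d9000000000000000000000001) (nat_lit 3) (nat_lit 9)⟩,
  ⟨(nat_lit 0), (nat_lit 0), (nat_lit 0), (nat_lit 0), (nat_lit 0x4732000005b3000000000000000000000003), (nat_lit 0), .tv (nat_lit 0x2d9000000000000000000000001) (nat_lit 3) (nat_lit 45)⟩,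
  ⟨(nat_lit 0), (nat_lit 0), (nat_lit 0), (nat_lit 0), (nat_lit 0x4180000005b3000000000000000000000003), (nat_lit 0), .tv (nat_lit 0x2d9000000000000000000000001) (nat_lit 3) (nat_lit 36)⟩,
  ⟨(nat_lit 0x1), (nat_lit 0), (nat_lit 0), (nat_lit 0x474b), (nat_lit 0x474a000005b9000000000000000000000001), (nat_lit 0), .ch [] (nat_lit 99) (nat_lit 99) (nat_lit 3)⟩,
  ⟨(nat_lit 0x1), (nat_lit 0), (nat_lit 0), (nat_lit 0x2ac0), (nat_lit 0x4195000005b9000000000000000000000001), (nat_lit 0), .ch [] (nat_lit 99) (nat_lit 99) (nat_lit 3)⟩,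
  ⟨(nat_lit 0x1), (nat_lit 0), (nat_lit 0), (nat_lit 0x223e), (nat_lit 0x473e000005b6000000000000000000000001), (nat_lit 0), .ch [] (nat_lit 99) (nat_lit 99) (nat_lit 3)⟩,
  ⟨(nat_lit 0x1), (nat_lit 0), (nat_lit 0), (nat_lit 0x4190), (nat_lit 0x418f000005b6000000000000000000000001), (nat_lit 0), .ch [] (nat_lit 99) (nat_lit 99) (nat_lit 3)⟩,
  ⟨(nat_lit 0x1), (nat_lit 0), (nat_lit 0), (nat_lit 0x337f), (nat_lit 0x3381000005b3000000000000000000000001), (nat_lit 0), .ch [] (nat_lit 99) (nat_lit 99) (nat_lit 3)⟩,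
  ⟨(nat_lit 0x1), (nat_lit 0), (nat_lit 0), (nat_lit 0x19d7), (nat_lit 0x3362000005b3000000000000000000000001), (nat_lit 0), .ch [] (nat_lit 99) (nat_lit 99) (nat_lit 3)⟩,
  ⟨(nat_lit 0), (nat_lit 0), (nat_lit 0), (nat_lit 0), (nat_lit 0x4180000005dc000000000000000000000003), (nat_lit 0), .tv (nat_lit 0x327000000000000000000000001) (nat_lit 3) (nat_lit 36)⟩,
  ⟨(nat_lit 0), (nat_lit 0), (nat_lit 0), (nat_lit 0), (nat_lit 0x418000000602000000000000000000000003), (nat_lit 0), .tv (nat_lit 0x300000000000000000000000001) (nat_lit 3) (nat_lit 36)⟩,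
  ⟨(nat_lit 0), (nat_lit 0), (nat_lit 0), (nat_lit 0), (nat_lit 0x41800000000000000000004f000000000003), (nat_lit 0), .tv (nat_lit 0x27000000000001) (nat_lit 3) (nat_lit 90)⟩,
  ⟨(nat_lit 0), (nat_lit 0), (nat_lit 0), (nat_lit 0), (nat_lit 0x4732000005fa000000000000000000000003), (nat_lit 0), .tv (nat_lit 0x309000000000000000000000001) (nat_lit 3) (nat_lit 45)⟩,
  ⟨(nat_lit 0), (nat_lit 0), (nat_lit 0), (nat_lit 0), (nat_lit 0x4732000005e4000000000000000000000003), (nat_lit 0), .tv (nat_lit 0x31e000000000000000000000001) (nat_lit 3) (nat_lit 45)⟩,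
  ⟨(nat_lit 0), (nat_lit 0), (nat_lit 0), (nat_lit 0), (nat_lit 0x473200000000000000000046000000000003), (nat_lit 0), .tv (nat_lit 0x30000000000001) (nat_lit 3) (nat_lit 90)⟩,
  ⟨(nat_lit 0x1), (nat_lit 0), (nat_lit 0), (nat_lit 0x4190), (nat_lit 0x418f000005fc000000000000000000000001), (nat_lit 0), .ch [] (nat_lit 99) (nat_lit 99) (nat_lit 3)⟩,
  ⟨(nat_lit 0x1), (nat_lit 0), (nat_lit 0), (nat_lit 0x4190), (nat_lit 0x418f000005df000000000000000000000001), (nat_lit 0), .ch [] (nat_lit 99) (nat_lit 99) (nat_lit 3)⟩,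
  ⟨(nat_lit 0x1), (nat_lit 0), (nat_lit 0), (nat_lit 0x4190), (nat_lit 0x418f0000000000000000004f000000000001), (nat_lit 0), .ch [] (nat_lit 99) (nat_lit 99) (nat_lit 3)⟩,
  ⟨(nat_lit 0x1), (nat_lit 0), (nat_lit 0), (nat_lit 0x474b), (nat_lit 0x474a000005e1000000000000000000000001), (nat_lit 0), .ch [] (nat_lit 99) (nat_lit 99) (nat_lit 3)⟩,
  ⟨(nat_lit 0x1), (nat_lit 0), (nat_lit 0), (nat_lit 0x474b), (nat_lit 0x474a000005f7000000000000000000000001), (nat_lit 0), .ch [] (nat_lit 99) (nat_lit 99) (nat_lit 3)⟩,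
  ⟨(nat_lit 0x1), (nat_lit 0), (nat_lit 0), (nat_lit 0x474b), (nat_lit 0x474a00000000000000000046000000000001), (nat_lit 0), .ch [] (nat_lit 99) (nat_lit 99) (nat_lit 3)⟩,
  ⟨(nat_lit 0x1), (nat_lit 0), (nat_lit 0), (nat_lit 0x2ac0), (nat_lit 0x4195000005d9000000000000000000000001), (nat_lit 0), .ch [] (nat_lit 99) (nat_lit 99) (nat_lit 3)⟩,
  ⟨(nat_lit 0x1), (nat_lit 0), (nat_lit 0), (nat_lit 0x2ac0), (nat_lit 0x4195000005ff000000000000000000000001), (nat_lit 0), .ch [] (nat_lit 99) (nat_lit 99) (nat_lit 3)⟩,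
  ⟨(nat_lit 0x1), (nat_lit 0), (nat_lit 0), (nat_lit 0x2ac0), (nat_lit 0x41950000000000000000004f000000000001), (nat_lit 0), .ch [] (nat_lit 99) (nat_lit 99) (nat_lit 3)⟩,
  ⟨(nat_lit 0x1), (nat_lit 0), (nat_lit 0), (nat_lit 0x223e), (nat_lit 0x473e000005f4000000000000000000000001), (nat_lit 0), .ch [] (nat_lit 99) (nat_lit 99) (nat_lit 3)⟩,
  ⟨(nat_lit 0x1), (nat_lit 0), (nat_lit 0), (nat_lit 0x223e), (nat_lit 0x473e000005e7000000000000000000000001), (nat_lit 0), .ch [] (nat_lit 99) (nat_lit 99) (nat_lit 3)⟩,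
  ⟨(nat_lit 0x1), (nat_lit 0), (nat_lit 0), (nat_lit 0x223e), (nat_lit 0x473e00000000000000000046000000000001), (nat_lit 0), .ch [] (nat_lit 99) (nat_lit 99) (nat_lit 3)⟩,
  ⟨(nat_lit 0), (nat_lit 0), (nat_lit 0), (nat_lit 0), (nat_lit 0x33f7000005ec000000000000000000000003), (nat_lit 0), .tv (nat_lit 0x2fa000000000000000000000001) (nat_lit 3) (nat_lit 9)⟩,
  ⟨(nat_lit 0x1), (nat_lit 0), (nat_lit 0), (nat_lit 0x3433), (nat_lit 0x3435000005ec000000000000000000000001), (nat_lit 0), .ch [] (nat_lit 99) (nat_lit 99) (nat_lit 3)⟩,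
  ⟨(nat_lit 0x1), (nat_lit 0), (nat_lit 0), (nat_lit 0x1a28), (nat_lit 0x3416000005ec000000000000000000000001), (nat_lit 0), .ch [] (nat_lit 99) (nat_lit 99) (nat_lit 3)⟩,
  ⟨(nat_lit 0), (nat_lit 0), (nat_lit 0), (nat_lit 0), (nat_lit 0x339d000005d4000000000000000000000003), (nat_lit 0), .tv (nat_lit 0x312000000000000000000000001) (nat_lit 3) (nat_lit 9)⟩,
  ⟨(nat_lit 0x1), (nat_lit 0), (nat_lit 0), (nat_lit 0x33d9), (nat_lit 0x33db000005d4000000000000000000000001), (nat_lit 0), .ch [] (nat_lit 99) (nat_lit 99) (nat_lit 3)⟩,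
  ⟨(nat_lit 0x1), (nat_lit 0), (nat_lit 0), (nat_lit 0x1a79), (nat_lit 0x33bc000005d4000000000000000000000001), (nat_lit 0), .ch [] (nat_lit 99) (nat_lit 99) (nat_lit 3)⟩,
  ⟨(nat_lit 0x32000000000000), (nat_lit 0), (nat_lit 0), (nat_lit 0x49e4000000000000), (nat_lit 0x49f000000000000000000001000000000003), (nat_lit 0), .ch [] (nat_lit 99) (nat_lit 99) (nat_lit 96)⟩,
  ⟨(nat_lit 0x29000000000000), (nat_lit 0), (nat_lit 0), (nat_lit 0x2c9d000000000000), (nat_lit 0x433000000000000000000001000000000003), (nat_lit 0), .ch [] (nat_lit 99) (nat_lit 99) (nat_lit 93)⟩,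
  ⟨(nat_lit 0x32000000000000), (nat_lit 0), (nat_lit 0), (nat_lit 0x2412000000000000), (nat_lit 0x489100000000000000000001000000000003), (nat_lit 0), .ch [] (nat_lit 99) (nat_lit 99) (nat_lit 96)⟩,
  ⟨(nat_lit 0x29000000000000), (nat_lit 0), (nat_lit 0), (nat_lit 0x43ea000000000000), (nat_lit 0x43ed00000000000000000001000000000003), (nat_lit 0), .ch [] (nat_lit 99) (nat_lit 99) (nat_lit 93)⟩,
  ⟨(nat_lit 0), (nat_lit 0), (nat_lit 0), (nat_lit 0), (nat_lit 0x352900000658000000000000000000000003), (nat_lit 0), .tv (nat_lit 0x32d000000000000000000000001) (nat_lit 3) (nat_lit 9)⟩,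
  ⟨(nat_lit 0x1), (nat_lit 0), (nat_lit 0), (nat_lit 0x3565), (nat_lit 0x356700000658000000000000000000000001), (nat_lit 0), .ch [] (nat_lit 99) (nat_lit 99) (nat_lit 3)⟩,
  ⟨(nat_lit 0x1), (nat_lit 0), (nat_lit 0), (nat_lit 0x1aca), (nat_lit 0x354800000658000000000000000000000001), (nat_lit 0), .ch [] (nat_lit 99) (nat_lit 99) (nat_lit 3)⟩,
  ⟨(nat_lit 0), (nat_lit 0), (nat_lit 0), (nat_lit 0), (nat_lit 0x34360000060a000000000000000000000003), (nat_lit 0), .tv (nat_lit 0x381000000000000000000000001) (nat_lit 3) (nat_lit 9)⟩,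
  ⟨(nat_lit 0x1), (nat_lit 0), (nat_lit 0), (nat_lit 0x1bbd), (nat_lit 0x34550000060a000000000000000000000001), (nat_lit 0), .ch [] (nat_lit 99) (nat_lit 99) (nat_lit 3)⟩,
  ⟨(nat_lit 0x1), (nat_lit 0), (nat_lit 0), (nat_lit 0x3472), (nat_lit 0x34740000060a000000000000000000000001), (nat_lit 0), .ch [] (nat_lit 99) (nat_lit 99) (nat_lit 3)⟩,
  ⟨(nat_lit 0x1), (nat_lit 0), (nat_lit 0), (nat_lit 0x7ab), (nat_lit 0x3343000007ad000000000000000000000001), (nat_lit 0), .ch [] (nat_lit 99) (nat_lit 99) (nat_lit 3)⟩,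
  ⟨(nat_lit 0x1), (nat_lit 0), (nat_lit 0), (nat_lit 0x4bf), (nat_lit 0x3343000006b0000000000000000000000001), (nat_lit 0), .ch [] (nat_lit 99) (nat_lit 99) (nat_lit 3)⟩,
  ⟨(nat_lit 0x1), (nat_lit 0), (nat_lit 0), (nat_lit 0x7cc), (nat_lit 0x33bc000007ce000000000000000000000001), (nat_lit 0), .ch [] (nat_lit 99) (nat_lit 99) (nat_lit 3)⟩,
  ⟨(nat_lit 0x1), (nat_lit 0), (nat_lit 0), (nat_lit 0x4e0), (nat_lit 0x3416000006e9000000000000000000000001), (nat_lit 0), .ch [] (nat_lit 99) (nat_lit 99) (nat_lit 3)⟩,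
  ⟨(nat_lit 0x1), (nat_lit 0), (nat_lit 0), (nat_lit 0x7cc), (nat_lit 0x33db000007ce000000000000000000000001), (nat_lit 0), .ch [] (nat_lit 99) (nat_lit 99) (nat_lit 3)⟩,
  ⟨(nat_lit 0x1), (nat_lit 0), (nat_lit 0), (nat_lit 0x3433), (nat_lit 0x3435000006e9000000000000000000000001), (nat_lit 0), .ch [] (nat_lit 99) (nat_lit 99) (nat_lit 3)⟩,
  ⟨(nat_lit 0x1), (nat_lit 0), (nat_lit 0), (nat_lit 0x7e4), (nat_lit 0x33f7000007e6000000000000000000000001), (nat_lit 0), .ch [] (nat_lit 99) (nat_lit 99) (nat_lit 3)⟩,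
  ⟨(nat_lit 0x1), (nat_lit 0), (nat_lit 0), (nat_lit 0x4f8), (nat_lit 0x339d000006d1000000000000000000000001), (nat_lit 0), .ch [] (nat_lit 99) (nat_lit 99) (nat_lit 3)⟩,
  ⟨(nat_lit 0x1), (nat_lit 0), (nat_lit 0), (nat_lit 0x4e0), (nat_lit 0x33f7000006e9000000000000000000000001), (nat_lit 0), .ch [] (nat_lit 99) (nat_lit 99) (nat_lit 3)⟩,
  ⟨(nat_lit 0x1), (nat_lit 0), (nat_lit 0), (nat_lit 0x33d9), (nat_lit 0x33db000006d1000000000000000000000001), (nat_lit 0), .ch [] (nat_lit 99) (nat_lit 99) (nat_lit 3)⟩,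
  ⟨(nat_lit 0x1), (nat_lit 0), (nat_lit 0), (nat_lit 0x7cc), (nat_lit 0x339d000007ce000000000000000000000001), (nat_lit 0), .ch [] (nat_lit 99) (nat_lit 99) (nat_lit 3)⟩,
  ⟨(nat_lit 0x1), (nat_lit 0), (nat_lit 0), (nat_lit 0x7e4), (nat_lit 0x3416000007e6000000000000000000000001), (nat_lit 0), .ch [] (nat_lit 99) (nat_lit 99) (nat_lit 3)⟩,
  ⟨(nat_lit 0x1), (nat_lit 0), (nat_lit 0), (nat_lit 0x7e4), (nat_lit 0x3435000007e6000000000000000000000001), (nat_lit 0), .ch [] (nat_lit 99) (nat_lit 99) (nat_lit 3)⟩,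
  ⟨(nat_lit 0x1), (nat_lit 0), (nat_lit 0), (nat_lit 0x4f8), (nat_lit 0x33bc000006d1000000000000000000000001), (nat_lit 0), .ch [] (nat_lit 99) (nat_lit 99) (nat_lit 3)⟩,
  ⟨(nat_lit 0x1), (nat_lit 0), (nat_lit 0), (nat_lit 0x7ab), (nat_lit 0x3362000007ad000000000000000000000001), (nat_lit 0), .ch [] (nat_lit 99) (nat_lit 99) (nat_lit 3)⟩,
  ⟨(nat_lit 0x1), (nat_lit 0), (nat_lit 0), (nat_lit 0x7ab), (nat_lit 0x3381000007ad000000000000000000000001), (nat_lit 0), .ch [] (nat_lit 99) (nat_lit 99) (nat_lit 3)⟩,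
  ⟨(nat_lit 0x1), (nat_lit 0), (nat_lit 0), (nat_lit 0x337f), (nat_lit 0x3381000006b0000000000000000000000001), (nat_lit 0), .ch [] (nat_lit 99) (nat_lit 99) (nat_lit 3)⟩,
  ⟨(nat_lit 0x1), (nat_lit 0), (nat_lit 0), (nat_lit 0x4bf), (nat_lit 0x3362000006b0000000000000000000000001), (nat_lit 0), .ch [] (nat_lit 99) (nat_lit 99) (nat_lit 3)⟩]
theorem ok1372 : (clsL cls (nat_lit 1480) spl rc1372 (nat_lit 1372) && Nat.beq rc1372.length 108) = true := by decide +kernel

end CL.C9
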